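import Mathlib
import Groth.Agent.WeilCohLib.PDeg

/-! `p`-bases in the naive sense and the degree of the Frobenius of fields of fractions. -/

set_option autoImplicit false
set_option linter.style.haveILetI false

open PowerSeries

namespace Groth.Agent.PDegree

universe u v

/-- every element is uniquely `∑ N j ^ p * c j` -/
def IsPB {R : Type u} [CommRing R] (p : ℕ) {ι : Type v} [Fintype ι] (c : ι → R) : Prop :=
  Function.Bijective fun N : ι → R => ∑ j, N j ^ p * c j

theorem IsPB.map_fractionRing {P G : Type u} [CommRing P] [IsDomain P] [Field G] [Algebra P G] [IsFractionRing P G]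
    (p : ℕ) [Fact p.Prime] [CharP G p] {ι : Type v} [Fintype ι] {c : ι → P} (h : IsPB p c) :
    IsPB p fun j => algebraMap P G (c j) := by
  classical
  have hinj : Function.Injective (algebraMap P G) := IsFractionRing.injective P G
  refine ⟨fun g g' hg => ?_, fun z => ?_⟩
  · obtain ⟨⟨d, hd⟩, hN⟩ := IsLocalization.exist_integer_multiples (nonZeroDivisors P) Finset.univ (g - g')
    choose N hN using fun j => hN j (Finset.mem_univ j)
    have h1 : ∑ j, N j ^ p * c j = ∑ j, (0 : ι → P) j ^ p * c j := by
      refine hinj ?_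
      simp only [Pi.zero_apply, zero_pow (Fact.out : p.Prime).ne_zero, zero_mul, Finset.sum_const_zero, map_zero]
      rw [map_sum]
      calc ∑ j, algebraMap P G (N j ^ p * c j)
          = ∑ j, algebraMap P G d ^ p * ((g j - g' j) ^ p * algebraMap P G (c j)) := by
            refine Finset.sum_congr rfl fun j _ => ?_
            rw [map_mul, map_pow, hN, Algebra.smul_def, mul_pow, Pi.sub_apply, mul_assoc]
        _ = 0 := by
            simp only [sub_pow_char, sub_mul, ← Finset.mul_sum, Finset.sum_sub_distrib]
            rw [show ∑ j, g j ^ p * algebraMap P G (c j) = ∑ j, g' j ^ p * algebraMap P G (c j) from hg, sub_self,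
              mul_zero]
    funext j
    have h2 := hN j
    rw [congrFun (h.1 h1) j, Pi.zero_apply, map_zero, Algebra.smul_def, eq_comm, mul_eq_zero] at h2
    exact sub_eq_zero.1 (h2.resolve_left fun h => nonZeroDivisors.ne_zero hd (hinj (h.trans (map_zero _).symm)))
  · obtain ⟨a, d, hd, rfl⟩ := IsFractionRing.div_surjective P z
    obtain ⟨N, hN⟩ := h.2 (a * d ^ (p - 1))
    refine ⟨fun j => algebraMap P G (N j) / algebraMap P G d, ?_⟩
    have hd0 : algebraMap P G d ≠ 0 := fun h => nonZeroDivisors.ne_zero hd (hinj (h.trans (map_zero _).symm))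
    have hN' := congrArg (algebraMap P G) hN
    simp only [map_sum, map_mul, map_pow] at hN'
    simp only [div_pow, div_mul_eq_mul_div, ← Finset.sum_div]
    rw [hN', div_eq_div_iff (pow_ne_zero _ hd0) hd0, mul_assoc, ← pow_succ,
      Nat.sub_add_cancel (Fact.out : p.Prime).one_le]

theorem IsPB.finrank_eq {G : Type u} [Field G] (p : ℕ) [Fact p.Prime] [CharP G p] {ι : Type v} [Fintype ι]
    {c : ι → G} (h : IsPB p c) : Module.finrank (frobenius G p).fieldRange G = Fintype.card ι := by
  have hbij : Function.Bijective (Fintype.linearCombination (frobenius G p).fieldRange c) := by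
    have e : ∀ N : ι → G, Fintype.linearCombination (frobenius G p).fieldRange c
        (fun j => ⟨frobenius G p (N j), N j, rfl⟩) = ∑ j, N j ^ p * c j := fun N => by
      simp [Fintype.linearCombination_apply, Subfield.smul_def, frobenius_def]
    refine ⟨fun a b hab => ?_, fun z => ?_⟩
    · choose a' ha using fun j => (a j).2
      choose b' hb using fun j => (b j).2
      have ha' : a = fun j => ⟨frobenius G p (a' j), a' j, rfl⟩ := funext fun j => Subtype.ext (ha j).symm
      have hb' : b = fun j => ⟨frobenius G p (b' j), b' j, rfl⟩ := funext fun j => Subtype.ext (hb j).symm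
      rw [ha', hb', e, e] at hab
      rw [ha', hb', h.1 hab]
    · obtain ⟨N, hN⟩ := h.2 z
      exact ⟨_, (e N).trans hN⟩
  rw [← (LinearEquiv.ofBijective _ hbij).finrank_eq, Module.finrank_fintype_fun_eq_card]

/-- the monomials with exponents `< p` -/
noncomputable def mono {d : ℕ} (p : ℕ) (ε : Fin d → Fin p) : Fin d →₀ ℕ :=
  Finsupp.equivFunOnFinite.symm fun i => (ε i : ℕ)

theorem mono_apply {d : ℕ} (p : ℕ) (ε : Fin d → Fin p) (i : Fin d) : mono p ε i = (ε i : ℕ) := rfl

open MvPolynomial in
theorem IsPB.mvPolynomial {F : Type u} [CommRing F] (p : ℕ) [Fact p.Prime] [CharP F p] {ι : Type v} [Fintype ι]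
    {c : ι → F} (h : IsPB p c) (d : ℕ) :
    IsPB p fun m : (Fin d → Fin p) × ι =>
      MvPolynomial.monomial (mono p m.1) (c m.2) := by
  classical
  have hcoeff : ∀ (N : (Fin d → Fin p) × ι → MvPolynomial (Fin d) F) (q : Fin d →₀ ℕ) (ε₀ : Fin d → Fin p),
      MvPolynomial.coeff (p • q + mono p ε₀)
        (∑ m, N m ^ p * MvPolynomial.monomial (mono p m.1) (c m.2)) =
      ∑ j, (N (ε₀, j)).coeff q ^ p * c j := fun N q ε₀ => by
    have hpe : ∀ x : MvPolynomial (Fin d) F, x ^ p = (x.expand p).map (frobenius F p) := fun x => by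
      have h0 : frobenius (MvPolynomial (Fin d) F) p =
          (MvPolynomial.map (frobenius F p)).comp (expand p (σ := Fin d) (R := F)).toRingHom :=
        MvPolynomial.ringHom_ext (fun r => by simp [frobenius_def]) (fun i => by simp [frobenius_def, MvPolynomial.expand_X])
      simpa [frobenius_def] using RingHom.congr_fun h0 x
    rw [coeff_sum, Fintype.sum_prod_type, Finset.sum_eq_single ε₀]
    · refine Finset.sum_congr rfl fun j _ => ?_
      rw [coeff_mul_monomial, hpe, MvPolynomial.coeff_map,
        coeff_expand_smul p (Fact.out : p.Prime).ne_zero, frobenius_def]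
    · intro ε _ hne
      refine Finset.sum_eq_zero fun j _ => ?_
      rw [coeff_mul_monomial']
      split_ifs with hle
      · obtain ⟨i, hi⟩ := Function.ne_iff.1 hne
        rw [hpe, MvPolynomial.coeff_map, coeff_expand_of_not_dvd (i := i), map_zero, zero_mul]
        intro hd
        apply hi
        have hle' : (ε i : ℕ) ≤ p * q i + (ε₀ i : ℕ) := by simpa [mono_apply] using hle i
        simp only [Finsupp.tsub_apply, Finsupp.add_apply, Finsupp.smul_apply, smul_eq_mul,
          mono_apply] at hd
        have h2 := (Nat.modEq_iff_dvd' hle').2 hd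
        rw [Nat.ModEq, Nat.mul_add_mod, Nat.mod_eq_of_lt (ε i).isLt, Nat.mod_eq_of_lt (ε₀ i).isLt] at h2
        exact Fin.ext h2
      · rfl
    · simp
  have hdec : ∀ n : Fin d →₀ ℕ, ∃ q ε, p • q + mono p ε = n := fun n =>
    ⟨n.mapRange (· / p) (Nat.zero_div p),
      fun i => ⟨n i % p, Nat.mod_lt _ (Fact.out : p.Prime).pos⟩,
      Finsupp.ext fun i => by simp [mono_apply, Nat.div_add_mod]⟩
  refine ⟨fun N N' hN => funext fun ⟨ε, j⟩ => MvPolynomial.ext _ _ fun q => ?_, fun x => ?_⟩
  · have := congrArg (MvPolynomial.coeff (p • q + mono p ε)) hN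
    simp only [hcoeff] at this
    exact congrFun (h.1 this) j
  · induction x using MvPolynomial.induction_on' with
    | add a b ha hb =>
      obtain ⟨N, rfl⟩ := ha
      obtain ⟨N', rfl⟩ := hb
      exact ⟨N + N', by simp only [Pi.add_apply, add_pow_char, add_mul, Finset.sum_add_distrib]⟩
    | monomial n x =>
      obtain ⟨q, ε, rfl⟩ := hdec n
      obtain ⟨a, rfl⟩ := h.2 x
      refine ⟨fun m => if m.1 = ε then MvPolynomial.monomial q (a m.2) else 0, ?_⟩
      simp only [Fintype.sum_prod_type, ite_pow, zero_pow (Fact.out : p.Prime).ne_zero, ite_mul,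
        zero_mul, MvPolynomial.monomial_pow, monomial_mul, map_sum]
      rw [Finset.sum_eq_single ε (fun b _ hb => by simp [hb]) (by simp)]
      simp

theorem isPB_powerSeries (k : Type u) [Field k] (p : ℕ) [Fact p.Prime] [CharP k p] [PerfectRing k p] :
    IsPB p fun i : Fin p => (PowerSeries.X : k⟦X⟧) ^ (i : ℕ) := by
  classical
  have hp := (Fact.out : p.Prime)
  haveI : CharP k⟦X⟧ p := charP_of_injective_ringHom (PowerSeries.C_injective (R := k)) p
  have hc : ∀ (N : Fin p → k⟦X⟧) (q : ℕ) (i : Fin p),
      PowerSeries.coeff (p * q + i) (∑ j, N j ^ p * (PowerSeries.X : k⟦X⟧) ^ (j : ℕ)) = PowerSeries.coeff q (N i) ^ p := by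
    intro N q i
    have hpe : ∀ x : k⟦X⟧, x ^ p = (PowerSeries.expand p hp.ne_zero x).map (frobenius k p) := fun x =>
      (MvPowerSeries.map_frobenius_expand (p := p) hp.ne_zero (f := x)).symm
    rw [map_sum, Finset.sum_eq_single i]
    · rw [coeff_mul_X_pow, hpe, PowerSeries.coeff_map, coeff_expand_mul, frobenius_def]
    · intro j _ hne
      rw [coeff_mul_X_pow']
      split_ifs with hle
      · rw [hpe, PowerSeries.coeff_map, coeff_expand_of_not_dvd, map_zero]
        intro hd
        apply hne
        have h2 := (Nat.modEq_iff_dvd' hle).2 hd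
        rw [Nat.ModEq, Nat.mul_add_mod, Nat.mod_eq_of_lt j.isLt, Nat.mod_eq_of_lt i.isLt] at h2
        exact Fin.ext h2
      · rfl
    · simp
  refine ⟨fun N N' h => funext fun i => PowerSeries.ext fun q => ?_, fun x => ?_⟩
  · have := congrArg (PowerSeries.coeff (p * q + i)) h
    rw [hc, hc] at this
    exact (frobenius_inj k p) this
  · refine ⟨fun i => PowerSeries.mk fun q => (frobeniusEquiv k p).symm (PowerSeries.coeff (p * q + i) x),
      PowerSeries.ext fun n => ?_⟩
    have hn : n = p * (n / p) + n % p := (Nat.div_add_mod n p).symm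
    rw [hn]
    exact (hc _ (n / p) ⟨n % p, Nat.mod_lt _ hp.pos⟩).trans (by
      rw [coeff_mk, frobeniusEquiv_symm_pow_p])

/-- `[K : K ^ p] = p ^ (d + 1)` for a finitely generated extension `K` of `k((t))` of transcendence degree `d` -/
theorem finrank_fieldRange_laurent (p : ℕ) [Fact p.Prime] (k : Type u) [Field k] [CharP k p] [PerfectRing k p]
    (K : Type u) [Field K] [Algebra (LaurentSeries k) K] [CharP K p]
    (hfg : (⊤ : IntermediateField (LaurentSeries k) K).FG) (d : ℕ)
    (hd : Algebra.trdeg (LaurentSeries k) K = d) :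
    Module.finrank (frobenius K p).fieldRange K = p ^ (d + 1) := by
  classical
  let F := LaurentSeries k
  haveI : CharP F p := (algebraMap F K).charP (algebraMap F K).injective p
  have hF := (isPB_powerSeries k p).map_fractionRing (G := F) p
  haveI : Algebra.EssFiniteType F K := IntermediateField.fg_top_iff.1 hfg
  obtain ⟨s, hs⟩ := exists_isTranscendenceBasis F K
  have hcard : Cardinal.mk s = d := hs.cardinalMk_eq_trdeg.trans hd
  haveI : Finite s := Cardinal.mk_lt_aleph0_iff.1 (hcard ▸ Cardinal.natCast_lt_aleph0)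
  haveI := Fintype.ofFinite s
  let e : Fin d ≃ s := (Fintype.equivFinOfCardEq (by
    rw [← Nat.cast_inj (R := Cardinal.{u}), ← Cardinal.mk_fintype, hcard])).symm
  have hs' := hs.comp_equiv e
  let P := MvPolynomial (Fin d) F
  let G := FractionRing P
  let g : P →ₐ[F] K := MvPolynomial.aeval ((Subtype.val : s → K) ∘ e)
  have hg : Function.Injective g := hs'.1
  letI : Algebra P K := g.toAlgebra
  haveI : IsScalarTower F P K := .of_algebraMap_eq fun c => (g.commutes c).symm
  haveI : FaithfulSMul P K := (faithfulSMul_iff_algebraMap_injective P K).2 hg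
  letI : Algebra G K := FractionRing.liftAlgebra P K
  haveI : IsScalarTower F G K := IsScalarTower.to₁₃₄ F P G K
  haveI : Algebra.EssFiniteType G K := Algebra.EssFiniteType.of_comp F G K
  haveI : Algebra.IsAlgebraic P K := by
    have h1 := hs'.isAlgebraic
    let e' : P ≃+* Algebra.adjoin F (Set.range ((Subtype.val : s → K) ∘ e)) := hs'.1.aevalEquiv.toRingEquiv
    exact ⟨fun x => IsAlgebraic.of_ringHom_of_comp_eq (R := P) (A := K)
      (S := Algebra.adjoin F (Set.range ((Subtype.val : s → K) ∘ e))) (B := K)
      (f := e'.toRingHom) (g := RingHom.id K) (a := x) (h1.1 x) e'.surjective (fun _ _ h => h)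
      (RingHom.ext fun z => hs'.1.algebraMap_aevalEquiv z)⟩
  haveI : Algebra.IsAlgebraic G K := ⟨fun x => (Algebra.IsAlgebraic.isAlgebraic (R := P) x).extendScalars (IsFractionRing.injective P G)⟩
  haveI : FiniteDimensional G K := Algebra.finite_of_essFiniteType_of_isAlgebraic
  haveI : CharP G p := (algebraMap G K).charP (algebraMap G K).injective p
  haveI : ExpChar G p := ExpChar.prime Fact.out
  haveI : ExpChar K p := ExpChar.prime Fact.out
  have hG := ((hF.mvPolynomial p d).map_fractionRing (G := G) p).finrank_eq p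
  have h := WeilCohLib.finrank_fieldRange_eq_of_finite G K p 1
  rw [iterateFrobenius_one, iterateFrobenius_one] at h
  rw [h, hG]
  simp [pow_succ]

end Groth.Agent.PDegree
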